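import Mathlib
import Cfsg.Agent.H191.SN.Eng

/-!
# Elements of order three acting trivially modulo the radical on subgroups without `L₃(3)`, `U₃(3)`, `PSp₄(3)`:
groups with a root group datum, II (helper191, S3831 [D0])

* `eq_sr_of_orth` : the positive roots supported on pairwise orthogonal nodes are simple;
* `noS3_parabolic` : `P_J` has no section `L₃(3)`, `U₃(3)`, `PSp₄(3)` if the nodes of `J` commute pairwise and the `X_i`
  are commutative (the Sylow `r`-subgroup of `P_J / V_J` is commutative);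
* `not_solvable_three` : a node with `|X_i| ≥ 4` is not solvable, `r = 3`;
* `eq_one_of_rgd_gen`, `eq_one_of_rgd`, `eq_one_of_rgd_three` : `RN x`, `x ^ 3 = 1` fixing `B` up to conjugation is trivial.
-/

set_option autoImplicit false
set_option linter.unusedSectionVars false

namespace Cfsg.Agent.H191.SN

open Cfsg Subgroup Cfsg.Agent.H459.Rad Cfsg.Agent.H459.Gallery Cfsg.Agent.H459.NonEll Cfsg.Agent.H459.Iface
open Cfsg.Agent.H459 Cfsg.Agent.H459.RgdRad Cfsg.Agent.H21.SN Cfsg.Agent.H959.Rad3.Gal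
open Cfsg.Agent.Schreier.BNSch Cfsg.Agent.FixBN Cfsg.Agent.H459.SolNode
open Cfsg.Agent.SignalizersComponents.ComponentExists (isSolvable_of_le)
open scoped commutatorElement

open CoxeterSystem Cfsg.Agent.ChevalleyStructure.CoxeterGeom Cfsg.Agent.Tits.Roots
  Cfsg.Agent.Nodes.Reps Cfsg.Agent.Nodes.BNOf Cfsg.Agent.Nodes.LeviDec Cfsg.Agent.Nodes.StabComb
  Cfsg.Agent.KFacts.RgdCharP Cfsg.Agent.KFacts.RgdVJ Cfsg.Agent.Nodes.OppDec Cfsg.Agent.Nodes.Bruhat

universe u

section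

variable {I : Type*} [Fintype I] [DecidableEq I] {M : CoxeterMatrix I} {W : Type*} [Group W]
  {cs : CoxeterSystem M W} {C : I → I → ℤ} {h : IsCartan M C}

/-- the positive roots supported on pairwise orthogonal nodes are simple -/
theorem eq_sr_of_orth [Finite W] {J : Set I} (hJ : ∀ i ∈ J, ∀ j ∈ J, i ≠ j → M i j = 2) {x : I → ℤ} (hx : IsRoot cs h x)
    (h0 : 0 ≤ x) (hs : ∀ k, k ∉ J → x k = 0) : ∃ j ∈ J, x = sr j := by
  have := Fintype.ofFinite W
  obtain ⟨i, hi0, hi⟩ := exists_pairing_pos cs h h0 hx.ne_zero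
  have hiJ : i ∈ J := by
    by_contra hiJ
    have := hs i hiJ
    omega
  refine ⟨i, hiJ, ?_⟩
  by_contra hxi
  have h1 := hx.simple_nonneg h0 i hxi i
  rw [rep_simple_apply_self] at h1
  have h2 : pairing C i x = 2 * x i := by
    unfold pairing
    rw [Finset.sum_eq_single i]
    · rw [h.diag]
    · intro k _ hk
      by_cases hkJ : k ∈ J
      · have h3 := hJ i hiJ k hkJ (Ne.symm hk)
        rcases h.rel i k (Ne.symm hk) with ⟨-, h4, -⟩ | ⟨h4, -⟩ | ⟨h4, -⟩ | ⟨h4, -⟩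
        · rw [h4, zero_mul]
        all_goals omega
      · rw [hs k hkJ, mul_zero]
    · intro hn
      exact absurd (Finset.mem_univ i) hn
  rw [h2] at h1
  have h3 : (0 : ℤ) ≤ x i - 2 * x i := h1
  omega

end

variable {G : Type u} [Group G] [Finite G] {I : Type*} [Fintype I] [DecidableEq I] {M : CoxeterMatrix I} {W : Type*}
  [Group W] {cs : CoxeterSystem M W} {C : I → I → ℤ} {h : IsCartan M C} {r : ℕ} {T : Subgroup G} {n : I → G}
  {X : (I → ℤ) → Subgroup G}

section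

variable [Finite W] (R : RGD cs h r T n X) (hgen : RGD.B cs h T X ⊔ NN cs R.nsys = ⊤)

include R in
/-- root groups of orthogonal nodes commute -/
theorem comm_of_orth {i j : I} (hij : i ≠ j) (hM : M i j = 2) {a b : G} (ha : a ∈ X (sr i)) (hb : b ∈ X (sr j)) :
    a * b = b * a := by
  have hJ : ∀ k ∈ ({i, j} : Set I), ∀ l ∈ ({i, j} : Set I), k ≠ l → M k l = 2 := by
    rintro k (rfl | rfl) l (rfl | rfl) hkl
    · exact absurd rfl hkl
    · exact hM
    · rw [M.symmetric]; exact hM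
    · exact absurd rfl hkl
  have h1 := R.comm (sr i) (sr j) (isRoot_sr cs h i) (isRoot_sr cs h j)
    (fun he => by
      have := congrFun he i
      rw [sr_self, sr_ne hij] at this
      omega)
    (fun he => by
      have := congrFun he i
      rw [Pi.neg_apply, sr_self, sr_ne hij] at this
      omega) a ha b hb
  have h2 : btw cs h X (sr i) (sr j) = ⊥ := by
    rw [eq_bot_iff]
    refine iSup_le ?_
    rintro ⟨z, hz⟩
    exfalso
    obtain ⟨hzr, m, a, b, hm, ha, hb, he⟩ := hz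
    have hz0 : 0 ≤ z := by
      refine btwn_nonneg (cs := cs) (h := h) (x := sr i) (y := sr j) ⟨hzr, m, a, b, hm, ha, hb, he⟩ (sr_nonneg i)
        (sr_nonneg j)
    obtain ⟨k, hk, hzk⟩ := eq_sr_of_orth hJ hzr hz0 (fun k hk => by
      have h3 := congrFun he k
      have hki : k ≠ i := fun h => hk (Or.inl h)
      have hkj : k ≠ j := fun h => hk (Or.inr h)
      rw [Pi.smul_apply, Pi.add_apply, Pi.smul_apply, Pi.smul_apply, sr_ne hki, sr_ne hkj] at h3
      simp only [smul_eq_mul, mul_zero, add_zero, mul_eq_zero] at h3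
      rcases h3 with h3 | h3
      · omega
      · exact h3)
    subst hzk
    have h3 := congrFun he i
    have h4 := congrFun he j
    simp only [Pi.smul_apply, Pi.add_apply, smul_eq_mul, sr_self, sr_ne hij, sr_ne (Ne.symm hij)] at h3 h4
    rcases hk with rfl | rfl
    · rw [sr_ne (Ne.symm hij)] at h4
      omega
    · rw [sr_ne hij] at h3
      omega
  rw [h2, mem_bot, commutatorElement_def] at h1
  calc a * b = (a * b * a⁻¹ * b⁻¹) * (b * a) := by group
    _ = b * a := by rw [h1, one_mul]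

/-- **Parabolic subgroups with pairwise commuting nodes have no section `L₃(3)`, `U₃(3)`, `PSp₄(3)`.** -/
theorem noS3_parabolic [Fact r.Prime]
    (hN : ∀ (H : Type u) [Group H] [Finite H], (∃ P : Sylow r H, IsMulCommutative (P : Subgroup H)) → NoS3 H)
    (hab : ∀ i, IsMulCommutative (X (sr i))) (U : Sylow r G) (hU : (U : Subgroup G) = RGD.Sup X (RGD.Pos cs h))
    {J : Set I} (hJ : ∀ i ∈ J, ∀ j ∈ J, i ≠ j → M i j = 2) : NoS3 ((R.bnPair hgen).parabolic (n '' J)) := by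
  classical
  set P := R.bnPair hgen with hP
  set Q := P.parabolic (n '' J) with hQ
  set V := VJ cs h X J with hV
  have hBQ : P.B ≤ Q := B_le_parabolic P _
  have hVB : V ≤ P.B := VJ_le_B J
  have hVQ : V ≤ Q := hVB.trans hBQ
  have hUQ : (U : Subgroup G) ≤ Q := by
    rw [hU]
    exact RGD.U_le_B.trans hBQ
  have hQn : Q ≤ Subgroup.normalizer (V : Set G) := by
    refine sup_le (B_le_PJ.trans (PJ_le_normalizer_VJ R J)) ?_
    rw [closure_le]
    rintro _ ⟨i, hi, rfl⟩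
    exact PJ_le_normalizer_VJ R J (LJ_le_PJ (n_mem_LJ R hi))
  set V' : Subgroup Q := V.subgroupOf Q with hV'
  have hV'n : V'.Normal := by
    refine ⟨fun v hv g => ?_⟩
    rw [hV', mem_subgroupOf] at hv ⊢
    exact (Subgroup.mem_normalizer_iff.1 (hQn g.2) v).1 hv
  let f : Q →* Q ⧸ V' := QuotientGroup.mk' V'
  have hf : Function.Surjective f := QuotientGroup.mk'_surjective V'
  have hk : f.ker = V' := QuotientGroup.ker_mk' V'
  refine NoS3.of_ker f ?_ (hN _ ⟨(U.subtype hUQ).mapSurjective hf, ?_⟩)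
  · rw [hk]
    have h1 : IsPGroup r ↥V' := (isPGroup_VJ R J).comap_subtype
    have h2 : Group.IsNilpotent ↥V' := h1.isNilpotent
    infer_instance
  -- the image of `U` is commutative
  have hcomm : ∀ a ∈ RGD.Pos cs h, ∀ b ∈ RGD.Pos cs h, ∀ u (hu : u ∈ Q), u ∈ X a → ∀ v (hv : v ∈ Q), v ∈ X b →
      f ⟨u, hu⟩ * f ⟨v, hv⟩ = f ⟨v, hv⟩ * f ⟨u, hu⟩ := by
    have htriv : ∀ u (hu : u ∈ Q), u ∈ V → f ⟨u, hu⟩ = 1 := by
      intro u hu huV
      rw [← MonoidHom.mem_ker, hk, hV', mem_subgroupOf]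
      exact huV
    intro a ha b hb u hu hua v hv hvb
    rcases mem_PosJ_or_NotJ J ha.1 ha.2 with h1 | h1
    · rcases mem_PosJ_or_NotJ J hb.1 hb.2 with h2 | h2
      · obtain ⟨i, hi, rfl⟩ := eq_sr_of_orth hJ h1.1 h1.2.1 h1.2.2
        obtain ⟨j, hj, rfl⟩ := eq_sr_of_orth hJ h2.1 h2.2.1 h2.2.2
        rw [← map_mul, ← map_mul]
        congr 1
        apply Subtype.ext
        show u * v = v * u
        by_cases hij : i = j
        · subst hij
          have := hab i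
          exact congrArg Subtype.val (mul_comm' (⟨u, hua⟩ : X (sr i)) ⟨v, hvb⟩)
        · exact comm_of_orth R hij (hJ i hi j hj hij) hua hvb
      · rw [htriv v hv (RGD.le_Sup (S := NotJ cs h J) h2 hvb), mul_one, one_mul]
    · rw [htriv u hu (RGD.le_Sup (S := NotJ cs h J) h1 hua), mul_one, one_mul]
  have hSQ : RGD.Sup X (RGD.Pos cs h) ≤ Q := by rw [← hU]; exact hUQ
  have hstep1 : ∀ b ∈ RGD.Pos cs h, ∀ v (hv : v ∈ Q), v ∈ X b → ∀ u (hu : u ∈ Q), u ∈ RGD.Sup X (RGD.Pos cs h) →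
      f ⟨u, hu⟩ * f ⟨v, hv⟩ = f ⟨v, hv⟩ * f ⟨u, hu⟩ := by
    intro b hb v hv hvb u hu huS
    have h1 : RGD.Sup X (RGD.Pos cs h) ≤ ((Subgroup.centralizer ({f ⟨v, hv⟩} : Set (Q ⧸ V'))).comap f).map Q.subtype := by
      refine RGD.Sup_le fun a ha w hw => ?_
      have hwQ : w ∈ Q := hSQ (RGD.le_Sup (S := RGD.Pos cs h) ha hw)
      refine ⟨⟨w, hwQ⟩, ?_, rfl⟩
      rw [SetLike.mem_coe, mem_comap, Subgroup.mem_centralizer_singleton_iff]
      exact (hcomm a ha b hb w hwQ hw v hv hvb)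
    obtain ⟨w, hw, hwu⟩ := h1 huS
    rw [SetLike.mem_coe, mem_comap, Subgroup.mem_centralizer_singleton_iff] at hw
    have h2 : w = ⟨u, hu⟩ := Subtype.ext hwu
    rw [h2] at hw
    exact hw
  have hstep2 : ∀ u (hu : u ∈ Q), u ∈ RGD.Sup X (RGD.Pos cs h) → ∀ v (hv : v ∈ Q), v ∈ RGD.Sup X (RGD.Pos cs h) →
      f ⟨u, hu⟩ * f ⟨v, hv⟩ = f ⟨v, hv⟩ * f ⟨u, hu⟩ := by
    intro u hu huS v hv hvS
    have h1 : RGD.Sup X (RGD.Pos cs h) ≤ ((Subgroup.centralizer ({f ⟨u, hu⟩} : Set (Q ⧸ V'))).comap f).map Q.subtype := by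
      refine RGD.Sup_le fun a ha w hw => ?_
      have hwQ : w ∈ Q := hSQ (RGD.le_Sup (S := RGD.Pos cs h) ha hw)
      refine ⟨⟨w, hwQ⟩, ?_, rfl⟩
      rw [SetLike.mem_coe, mem_comap, Subgroup.mem_centralizer_singleton_iff]
      exact (hstep1 a ha w hwQ hw u hu huS).symm
    obtain ⟨w, hw, hwu⟩ := h1 hvS
    rw [SetLike.mem_coe, mem_comap, Subgroup.mem_centralizer_singleton_iff] at hw
    have h2 : w = ⟨v, hv⟩ := Subtype.ext hwu
    rw [h2] at hw
    exact hw.symm
  have hcoe : (((U.subtype hUQ).mapSurjective hf : Sylow r (Q ⧸ V')) : Subgroup (Q ⧸ V')) =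
      (U.subtype hUQ : Subgroup Q).map f := rfl
  rw [hcoe]
  refine ⟨⟨?_⟩⟩
  rintro ⟨_, a, ha, rfl⟩ ⟨_, b, hb, rfl⟩
  apply Subtype.ext
  have ha' : (a : G) ∈ RGD.Sup X (RGD.Pos cs h) := by
    rw [← hU]
    exact ha
  have hb' : (b : G) ∈ RGD.Sup X (RGD.Pos cs h) := by
    rw [← hU]
    exact hb
  exact hstep2 a a.2 ha' b b.2 hb'

/-- `|X_i| ≥ 4`, `r = 3`: the node is not solvable (`3 ^ a + 1 = l ^ m` implies `3 ^ a + 1 ≤ 4`) -/
theorem not_solvable_three {T : Subgroup G} {n : I → G} {X : (I → ℤ) → Subgroup G} (R : RGD cs h 3 T n X)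
    (hgen : RGD.B cs h T X ⊔ NN cs R.nsys = ⊤) (i : I) (h4 : 4 ≤ Nat.card (X (sr i))) :
    ¬ Group.IsSolvable ((R.bnPair hgen).parabolic {n i}) := by
  have hf3 : Fact (Nat.Prime 3) := ⟨Nat.prime_three⟩
  set P := R.bnPair hgen with hP
  intro hsol
  have hs : n i ∈ P.S := mem_S R hgen
  obtain ⟨V, S⟩ := sec_node P hs hsol
  obtain ⟨l, m, hl, hlm⟩ := exists_pow S (trans_node P hs) (B_le_parabolic P _)
  have hcov : ∀ b ∈ P.B, ∃ u ∈ RGD.Sup X (RGD.Pos cs h), u⁻¹ * b ∈ P.N := by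
    intro b hb
    obtain ⟨u, hu, hT⟩ := NodeRGD.cover R hb
    exact ⟨u, hu, ⟨1, rp_of_mem hT⟩⟩
  obtain ⟨a, ha⟩ := index_node P (r := 3) (U := RGD.Sup X (RGD.Pos cs h)) RGD.U_le_B R.isPGroup_Upos hcov hs
  have h5 := le_index R hgen i
  rw [← hP] at h5
  have h1 : Even (3 ^ a + 1) := (Odd.pow (by decide)).add_one
  rw [← ha, hlm] at h1
  have h2 : 2 ∣ l ^ m := h1.two_dvd
  have h3 := (Nat.prime_dvd_prime_iff_eq Nat.prime_two hl).1 (Nat.prime_two.dvd_of_dvd_pow h2)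
  subst h3
  have h6 : 3 ^ a + 1 = 2 ^ m := by rw [← ha, hlm]
  have h7 : 5 ≤ 2 ^ m := by rw [← hlm]; omega
  have hm : 3 ≤ m := by
    by_contra hcon
    have : m ≤ 2 := by omega
    have := Nat.pow_le_pow_right (show 0 < 2 by norm_num) this
    omega
  have h8 : 8 ∣ 2 ^ m := by
    have := Nat.pow_dvd_pow 2 hm
    exact this
  have h9 : 3 ^ a % 8 = 1 ∨ 3 ^ a % 8 = 3 := by
    clear ha h1 h2 h6 h7 hm h8 hlm S
    induction a with
    | zero => left; rfl
    | succ a ih => rw [pow_succ]; omega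
  omega

/-- an automorphism of order three fixing `B` fixes a `P_J`, `i ∈ J`, with pairwise commuting nodes -/
theorem exists_orth_orbit (hconn : Conn M) {y : MulAut G} (hy3 : y ^ 3 = 1) (hyB : Iv y (R.bnPair hgen).B) (i : I) :
    ∃ J : Set I, i ∈ J ∧ (∀ k ∈ J, ∀ l ∈ J, k ≠ l → M k l = 2) ∧ Iv y ((R.bnPair hgen).parabolic (n '' J)) := by
  classical
  set P := R.bnPair hgen with hP
  have hadj : ∀ i j, i ≠ j → (H580.Graph.Adj M i j ↔ n i * n j * (n i)⁻¹ * (n j)⁻¹ ∉ P.B) := fun i j hij => adj_iff R hij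
  obtain ⟨σ, hσ1, hσ2⟩ := Cfsg.Agent.Schreier.BNGraph.exists_perm P n (show Set.range n = P.S from rfl) R.n_injective
    (H580.Graph.Adj M) (fun i hi => hi.1 rfl) hadj y hyB.map_eq
  have hsS : ∀ i, ({n i} : Set G) ⊆ P.S := fun i => Set.singleton_subset_iff.mpr ⟨i, rfl⟩
  have hσ3 : σ (σ (σ i)) = i := by
    have h6 : (P.parabolic {n i}).map (y ^ 3).toMonoidHom = P.parabolic {n (σ (σ (σ i)))} := by
      have e2 : (y ^ 3).toMonoidHom = y.toMonoidHom.comp (y.toMonoidHom.comp y.toMonoidHom) := by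
        rw [pow_succ, pow_two]; rfl
      rw [e2, ← Subgroup.map_map, ← Subgroup.map_map, hσ1, hσ1, hσ1]
    rw [hy3] at h6
    have h7 : P.parabolic {n i} = P.parabolic {n (σ (σ (σ i)))} := by
      rw [← h6]
      exact (Subgroup.map_id _).symm
    have h8 := Cfsg.Agent.S0314.result P (hsS _) (hsS _) h7
    exact (R.n_injective (Set.singleton_eq_singleton_iff.mp h8)).symm
  set J : Set I := {i, σ i, σ (σ i)} with hJ
  have hconn' : ∀ J : Set I, J.Nonempty → Jᶜ.Nonempty → ∃ a ∈ J, ∃ b ∈ Jᶜ, M a b ≠ 2 := by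
    intro J hJ hJc
    exact hconn J hJ (fun h => by rw [h, Set.compl_univ] at hJc; exact Set.not_nonempty_empty hJc)
  -- the nodes of an orbit commute
  have horth : ∀ k ∈ J, ∀ l ∈ J, k ≠ l → M k l = 2 := by
    have key : σ i ≠ i → M i (σ i) = 2 := by
      intro hne
      by_contra h1
      have h2 : H580.Graph.Adj M i (σ i) := ⟨Ne.symm hne, h1⟩
      have h3 := (hσ2 _ _).2 h2
      have h4 := (hσ2 _ _).2 h3
      rw [hσ3] at h4
      exact h4.2 (no_triangle cs hconn' h2.1 h3.1 h4.1 h2.2 h3.2)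
    have hadj' : ∀ a b, a ≠ b → (M (σ a) (σ b) = 2 ↔ M a b = 2) := by
      intro a b hab
      have h1 := hσ2 a b
      unfold H580.Graph.Adj at h1
      have h2 : σ a ≠ σ b := fun h => hab (σ.injective h)
      constructor
      · intro h3
        by_contra h4
        exact (h1.2 ⟨hab, h4⟩).2 h3
      · intro h3
        by_contra h4
        exact (h1.1 ⟨h2, h4⟩).2 h3
    have e1 : σ i ≠ i → M (σ i) (σ (σ i)) = 2 := fun hne => (hadj' _ _ (Ne.symm hne)).2 (key hne)
    have e2 : σ i ≠ i → M (σ (σ i)) i = 2 := fun hne => by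
      have h1 := (hadj' (σ i) (σ (σ i)) (fun h => hne (σ.injective h).symm)).2 (e1 hne)
      rwa [hσ3] at h1
    by_cases hne : σ i = i
    · have hall : ∀ k ∈ J, k = i := by
        rintro k (rfl | rfl | rfl)
        · rfl
        · exact hne
        · rw [hne, hne]
      intro k hk l hl hkl
      exact absurd ((hall k hk).trans (hall l hl).symm) hkl
    intro k hk l hl hkl
    simp only [hJ, Set.mem_insert_iff, Set.mem_singleton_iff] at hk hl
    rcases hk with hk | hk | hk <;> rcases hl with hl | hl | hl <;> rw [hk, hl] <;> rw [hk, hl] at hkl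
    · exact absurd rfl hkl
    · exact key hne
    · rw [M.symmetric]; exact e2 hne
    · rw [M.symmetric]; exact key hne
    · exact absurd rfl hkl
    · exact e1 hne
    · exact e2 hne
    · rw [M.symmetric]; exact e1 hne
    · exact absurd rfl hkl
  refine ⟨J, Or.inl rfl, horth, ?_⟩
  have h1 : P.parabolic (n '' J) ≤ (P.parabolic (n '' J)).comap y.toMonoidHom := by
    refine sup_le ?_ ?_
    · intro b hb
      exact B_le_parabolic P _ (hyB b hb)
    · rw [closure_le]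
      rintro _ ⟨k, hk, rfl⟩
      have h2 : y (n k) ∈ P.parabolic {n (σ k)} := by
        rw [← hσ1]
        exact ⟨n k, mem_parabolic_self P _, rfl⟩
      have h3 : σ k ∈ J := by
        rcases hk with rfl | rfl | rfl
        · exact Or.inr (Or.inl rfl)
        · exact Or.inr (Or.inr rfl)
        · exact Or.inl hσ3
      have h4 : n (σ k) ∈ n '' J := ⟨σ k, h3, rfl⟩
      exact parabolic_mono P (Set.singleton_subset_iff.2 h4) h2
  exact h1

/-- **The engine**, general form (any `r`): the parabolic subgroups `P_J` with pairwise commuting nodes have no section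
`L₃(3)`, `U₃(3)`, `PSp₄(3)`; there is no solvable node; `RN x`, `x ^ 3 = 1` and `x` fixes up to conjugation some `P_J` with
pairwise commuting nodes (for instance `B`, `J = ∅`, or a minimal parabolic subgroup). -/
theorem eq_one_of_rgd_gen [IsSimpleGroup G] [Fact r.Prime] [Nonempty I]
    (hPJ : ∀ J : Set I, (∀ i ∈ J, ∀ j ∈ J, i ≠ j → M i j = 2) → NoS3 ((R.bnPair hgen).parabolic (n '' J)))
    (hconn : Conn M) (hBs : Group.IsSolvable (RGD.B cs h T X))
    (hns : ∀ i, ¬ Group.IsSolvable ((R.bnPair hgen).parabolic {n i}))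
    {x : MulAut G} (hx : RN x) (hxp : x ^ 3 = 1) {J₀ : Set I} (hJ₀ : ∀ i ∈ J₀, ∀ j ∈ J₀, i ≠ j → M i j = 2) {g₀ : G}
    (hgJ : Iv (cx x g₀) ((R.bnPair hgen).parabolic (n '' J₀))) : x = 1 := by
  classical
  obtain ⟨i₀⟩ : Nonempty I := inferInstance
  set P := R.bnPair hgen with hP
  have hne : P.S.Nonempty := ⟨n i₀, i₀, rfl⟩
  have hcore := Cfsg.Agent.Tits.OfBN.normalCore_eq_bot P hne
  have hns' : ∀ s ∈ P.S, ¬ Group.IsSolvable (P.parabolic {s}) := by
    intro s hs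
    obtain ⟨i, rfl⟩ : ∃ i, n i = s := hs
    exact hns i
  have hSJ : ∀ J : Set I, n '' J ⊆ P.S := by
    rintro J _ ⟨k, -, rfl⟩
    exact ⟨k, rfl⟩
  have hg₀ : Iv (cx x g₀) P.B := by
    intro b hb
    have h1 := rad_le_B P hBs hns' (hSJ J₀) (hx.cx g₀ _ hgJ (hPJ J₀ hJ₀) b (B_le_parabolic P _ hb))
    have e : cx x g₀ b = b * (b⁻¹ * cx x g₀ b) := by group
    rw [e]
    exact mul_mem hb h1
  refine eq_one_of_RN P hcore hx hxp hBs hns' ?_ hg₀
  intro y hy3 hyB s hs
  obtain ⟨i, rfl⟩ : ∃ i, n i = s := hs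
  obtain ⟨J, hiJ, horth, hyJ⟩ := exists_orth_orbit R hgen hconn hy3 hyB i
  exact ⟨n '' J, hSJ J, ⟨i, hiJ, rfl⟩, hyJ, hPJ J horth⟩

/-- **The engine**: `RN x`, `x ^ 3 = 1` fixing `B` up to conjugation, no solvable nodes, commutative simple root
groups. -/
theorem eq_one_of_rgd [IsSimpleGroup G] [Fact r.Prime] [Nonempty I]
    (hN : ∀ (H : Type u) [Group H] [Finite H], (∃ P : Sylow r H, IsMulCommutative (P : Subgroup H)) → NoS3 H)
    (hab : ∀ i, IsMulCommutative (X (sr i))) (hconn : Conn M) (hBs : Group.IsSolvable (RGD.B cs h T X))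
    (hns : ∀ i, ¬ Group.IsSolvable ((R.bnPair hgen).parabolic {n i}))
    {x : MulAut G} (hx : RN x) (hxp : x ^ 3 = 1) {g₀ : G} (hg₀ : Iv (cx x g₀) (RGD.B cs h T X)) : x = 1 := by
  obtain ⟨i₀⟩ : Nonempty I := inferInstance
  have hne : (R.bnPair hgen).S.Nonempty := ⟨n i₀, i₀, rfl⟩
  have hcore := Cfsg.Agent.Tits.OfBN.normalCore_eq_bot (R.bnPair hgen) hne
  have hsplit := SplitRGD.split_of_rgd Fact.out R hgen hcore
  obtain ⟨U, hU⟩ := exists_sylow hsplit
  refine eq_one_of_rgd_gen R hgen (fun J hJ => noS3_parabolic R hgen hN hab U hU hJ) hconn hBs hns hx hxp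
    (J₀ := ∅) (by simp) (g₀ := g₀) ?_
  rw [Set.image_empty, parabolic_empty]
  exact hg₀

end

/-- **`r = 3`** -/
theorem eq_one_of_rgd_three [Finite W] [IsSimpleGroup G] [Nonempty I] {T : Subgroup G} {n : I → G}
    {X : (I → ℤ) → Subgroup G} (R : RGD cs h 3 T n X) (hgen : RGD.B cs h T X ⊔ NN cs R.nsys = ⊤)
    (hN : ∀ (H : Type u) [Group H] [Finite H], (∃ P : Sylow 3 H, IsMulCommutative (P : Subgroup H)) → NoS3 H)
    (hconn : Conn M) (hBs : Group.IsSolvable (RGD.B cs h T X))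
    (hab : ∀ i, IsMulCommutative (X (sr i))) (h4 : ∀ i, 4 ≤ Nat.card (X (sr i)))
    {x : MulAut G} (hx : RN x) (hxp : x ^ 3 = 1) : x = 1 := by
  have hf3 : Fact (Nat.Prime 3) := ⟨Nat.prime_three⟩
  obtain ⟨i₀⟩ : Nonempty I := inferInstance
  have hne : (R.bnPair hgen).S.Nonempty := ⟨n i₀, i₀, rfl⟩
  have hcore := Cfsg.Agent.Tits.OfBN.normalCore_eq_bot (R.bnPair hgen) hne
  have hsplit := SplitRGD.split_of_rgd Fact.out R hgen hcore
  obtain ⟨U, hU⟩ := exists_sylow hsplit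
  have hNU : normalizer ((U : Subgroup G) : Set G) = RGD.B cs h T X := by rw [hU]; exact hsplit.normalizer_eq
  obtain ⟨g₀, hg₀⟩ := exists_fix_sylow (n := 1) U (x := x) (by rw [pow_one]; exact hxp)
  rw [hNU] at hg₀
  exact eq_one_of_rgd R hgen hN hab hconn hBs (fun i => not_solvable_three R hgen i (h4 i)) hx hxp hg₀

/-- **`r = 2`** -/
theorem eq_one_of_rgd_two [Finite W] [IsSimpleGroup G] [Nonempty I] {T : Subgroup G} {n : I → G}
    {X : (I → ℤ) → Subgroup G} (R : RGD cs h 2 T n X) (hgen : RGD.B cs h T X ⊔ NN cs R.nsys = ⊤)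
    (hN : ∀ (H : Type u) [Group H] [Finite H], (∃ P : Sylow 2 H, IsMulCommutative (P : Subgroup H)) → NoS3 H)
    (hconn : Conn M) (hBs : Group.IsSolvable (RGD.B cs h T X))
    (hab : ∀ i, IsMulCommutative (X (sr i))) (h4 : ∀ i, TwoInv (X (sr i)))
    {x : MulAut G} (hx : RN x) (hxp : x ^ 3 = 1) {g₀ : G} (hg₀ : Iv (cx x g₀) (RGD.B cs h T X)) : x = 1 := by
  have hf2 : Fact (Nat.Prime 2) := ⟨Nat.prime_two⟩
  exact eq_one_of_rgd R hgen hN hab hconn hBs (fun i => not_solvable_of_twoInv R hgen i (h4 i)) hx hxp hg₀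

end Cfsg.Agent.H191.SN
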